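import Groth.Agent.Misc12.RigDescent.Main
import Groth.Agent.EtaleAlgebra.PairNoeth

/-!
Maps to a completion from algebras étale off `V(I)` come from maps to the henselization.
-/

set_option autoImplicit false
universe u

open TensorProduct

namespace Groth.Agent.Misc12.RigDescent

/-- Transfer of congruences along a comparison of completions. -/
theorem map_sub_mem_iff {C R : Type u} [CommRing C] [CommRing R] (K : Ideal C) (J : Ideal R)
    (g : C →+* R) (hg : K.map g = J) (e : AdicCompletion K C ≃+* AdicCompletion J R)
    (he : e.toRingHom.comp (algebraMap C (AdicCompletion K C)) = (algebraMap R (AdicCompletion J R)).comp g)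
    (n : ℕ) (z : AdicCompletion K C) (x : C) :
    z - algebraMap C (AdicCompletion K C) x ∈ (K ^ n).map (algebraMap C (AdicCompletion K C)) ↔
      e z - algebraMap R (AdicCompletion J R) (g x) ∈ (J ^ n).map (algebraMap R (AdicCompletion J R)) := by
  have hmap : ((K ^ n).map (algebraMap C (AdicCompletion K C))).map e.toRingHom =
      (J ^ n).map (algebraMap R (AdicCompletion J R)) := by
    rw [Ideal.map_map, he, ← Ideal.map_map, Ideal.map_pow, hg]
  have h1 : e.toRingHom (z - algebraMap C (AdicCompletion K C) x) =
      e z - algebraMap R (AdicCompletion J R) (g x) := by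
    rw [map_sub]
    exact congrArg (_ - ·) (RingHom.congr_fun he x)
  rw [← hmap, ← h1]
  exact ⟨fun h => Ideal.mem_map_of_mem _ h, fun h => by
    obtain ⟨y, hy, hye⟩ := (Ideal.mem_map_iff_of_surjective e.toRingHom e.surjective).1 h
    exact e.injective hye ▸ hy⟩

/-- Truncations in terms of ideals of the completion. -/
theorem eval_eq_mk_iff {C : Type u} [CommRing C] (K : Ideal C) (hK : K.FG) (n : ℕ)
    (z : AdicCompletion K C) (x : C) :
    AdicCompletion.eval K C n z = Submodule.Quotient.mk x ↔
      z - algebraMap C (AdicCompletion K C) x ∈ (K ^ n).map (algebraMap C (AdicCompletion K C)) := by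
  have h : (Submodule.Quotient.mk x : C ⧸ (K ^ n • ⊤ : Submodule C C)) =
      AdicCompletion.eval K C n (algebraMap C (AdicCompletion K C) x) := rfl
  rw [← sub_eq_zero, h, ← map_sub, ← LinearMap.mem_ker, ← AdicCompletion.pow_smul_top_eq_ker_eval hK,
    Ideal.smul_top_eq_map]
  rfl

/-- The algebra map into a henselian pair underlying a map to the completion. -/
theorem exists_algHom {A R B : Type u} [CommRing A] [CommRing R] [IsNoetherianRing R] [Algebra A R]
    [CommRing B] [Algebra A B] [Algebra.FiniteType A B] (J : Ideal R) [HenselianRing R J]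
    (s : Finset A) (hs : Ideal.span ((fun a => algebraMap A R a) '' (s : Set A)) = J)
    (hB : ∀ a ∈ s, Algebra.FormallyUnramified A (Localization.Away (algebraMap A B a)))
    (f : B →+* AdicCompletion J R)
    (hf : ∀ a, f (algebraMap A B a) = algebraMap R (AdicCompletion J R) (algebraMap A R a)) :
    ∃ ψ : B →ₐ[A] R, ∀ b, algebraMap R (AdicCompletion J R) (ψ b) = f b := by
  let fa : B →ₐ[A] AdicCompletion J R :=
    { f with commutes' := fun a => (hf a).trans (IsScalarTower.algebraMap_apply A R _ a).symm }
  let F : R ⊗[A] B →ₐ[R] AdicCompletion J R :=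
    Algebra.TensorProduct.lift (Algebra.ofId R _) fa fun _ _ => .all _ _
  let c : s → R := fun a => algebraMap A R a.1
  have hc : Ideal.span (Set.range c) = J := by
    rw [← hs]
    congr 1
    ext x; simp [c]
  have hun : ∀ a : s, Algebra.FormallyUnramified R
      (Localization.Away (algebraMap R (R ⊗[A] B) (c a))) := fun a => by
    have := hB a.1 a.2
    exact formallyUnramified_away (S := R) a.1
  have hmem : ∀ b : B, f b ∈ Set.range (algebraMap R (AdicCompletion J R)) := fun b => by
    have h := mem_range c hc hun F ((1 : R) ⊗ₜ[A] b)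
    have he : F ((1 : R) ⊗ₜ[A] b) = f b := by
      rw [Algebra.TensorProduct.lift_tmul, map_one, one_mul]; rfl
    rwa [he] at h
  have := faithfullyFlat_completion J (HenselianRing.jac (I := J))
  have hinj : Function.Injective (algebraMap R (AdicCompletion J R)) :=
    (faithfulSMul_iff_algebraMap_injective R _).1 inferInstance
  choose ψ₀ hψ₀ using hmem
  exact ⟨{ toFun := ψ₀
           map_one' := hinj (by rw [hψ₀, map_one, map_one])
           map_mul' := fun x y => hinj (by rw [hψ₀, map_mul, map_mul, hψ₀, hψ₀])
           map_zero' := hinj (by rw [hψ₀, map_zero, map_zero])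
           map_add' := fun x y => hinj (by rw [hψ₀, map_add, map_add, hψ₀, hψ₀])
           commutes' := fun a => hinj ((hψ₀ _).trans (hf a)) }, hψ₀⟩

/-- Existence and uniqueness with respect to congruences. -/
theorem existsUnique_algHom {A R B C : Type u} [CommRing A] [IsNoetherianRing A] [CommRing R]
    [IsNoetherianRing R] [Algebra A R] [CommRing B] [Algebra A B] [Algebra.FiniteType A B]
    [CommRing C] [IsNoetherianRing C] (I : Ideal A) (J : Ideal R) [HenselianRing R J]
    (hJ : I.map (algebraMap A R) = J)
    (hB : ∀ a ∈ I, Algebra.Etale A (Localization.Away (algebraMap A B a)))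
    (K : Ideal C) (g : C →+* R) (hg : K.map g = J) (e : AdicCompletion K C ≃+* AdicCompletion J R)
    (he : e.toRingHom.comp (algebraMap C (AdicCompletion K C)) = (algebraMap R (AdicCompletion J R)).comp g)
    (p : B →+* AdicCompletion K C)
    (hp : ∀ a, e (p (algebraMap A B a)) = algebraMap R (AdicCompletion J R) (algebraMap A R a)) :
    ∃! ψ : B →ₐ[A] R, ∀ (n : ℕ) (b : B), ∃ c : C, ψ b - g c ∈ J ^ n ∧
      AdicCompletion.eval K C n (p b) = Submodule.Quotient.mk c := by
  classical
  obtain ⟨s, hs⟩ := IsNoetherian.noetherian I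
  obtain ⟨ψ, hψ⟩ := exists_algHom J s
    (by rw [← hJ, ← hs, ← Ideal.span, Ideal.map_span])
    (fun a ha => by
      have := hB a (hs ▸ Submodule.subset_span ha)
      infer_instance)
    (e.toRingHom.comp p) hp
  have key : ∀ (n : ℕ) (b : B) (x : C),
      AdicCompletion.eval K C n (p b) = Submodule.Quotient.mk x ↔
        algebraMap R (AdicCompletion J R) (ψ b - g x) ∈ (J ^ n).map (algebraMap R (AdicCompletion J R)) := by
    intro n b x
    rw [eval_eq_mk_iff K (IsNoetherian.noetherian K), map_sub_mem_iff K J g hg e he, map_sub, hψ]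
    rfl
  refine ⟨ψ, fun n b => ?_, fun ψ' hψ' => AlgHom.ext fun b => ?_⟩
  · obtain ⟨x, hx⟩ := Submodule.Quotient.mk_surjective _ (AdicCompletion.eval K C n (p b))
    exact ⟨x, Groth.HensPair.mem_pow_of_algebraMap_mem J n ((key n b x).1 hx.symm), hx.symm⟩
  · have := faithfullyFlat_completion J (HenselianRing.jac (I := J))
    refine (faithfulSMul_iff_algebraMap_injective R (AdicCompletion J R)).1 inferInstance ?_
    rw [← sub_eq_zero, ← map_sub]
    refine IsHausdorff.haus' (I := J.map (algebraMap R (AdicCompletion J R)))
      (self := (AdicCompletion.isAdicComplete_self J (IsNoetherian.noetherian J)).toIsHausdorff) _ fun n => ?_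
    rw [SModEq.sub_mem, sub_zero, smul_eq_mul, Ideal.mul_top, ← Ideal.map_pow]
    obtain ⟨x, hx, hx'⟩ := hψ' n b
    refine Ideal.mem_map_of_mem _ ?_
    have h := sub_mem hx (Groth.HensPair.mem_pow_of_algebraMap_mem J n ((key n b x).1 hx'))
    rwa [sub_sub_sub_cancel_right] at h

end Groth.Agent.Misc12.RigDescent
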