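import Groth.Agent.HensPair.CompletionClopen
import Groth.Agent.Hensel1.Local
import Groth.Agent.Calg1.CompletionLocal
import Mathlib.RingTheory.AdicCompletion.AsTensorProduct
import Mathlib.RingTheory.AdicCompletion.RingHom
import Mathlib.RingTheory.TensorProduct.IncludeLeftSubRight

/-!
The adic completion of a Noetherian Zariski pair: descent of elements and finite algebras.
-/

set_option autoImplicit false
universe u

open TensorProduct

namespace Groth.Agent.Misc12.RigDescent

variable {R : Type u} [CommRing R] (I : Ideal R)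

theorem faithfullyFlat_completion [IsNoetherianRing R] (hjac : I ≤ Ideal.jacobson ⊥) :
    Module.FaithfullyFlat R (AdicCompletion I R) := by
  refine ⟨fun m hm h => hm.ne_top ((Ideal.eq_top_iff_one _).2 ?_)⟩
  rw [Ideal.smul_top_eq_map, Submodule.restrictScalars_eq_top_iff] at h
  have h1 := Ideal.mem_map_of_mem (AdicCompletion.evalOneₐ I).toRingHom
    (h ▸ (Submodule.mem_top (x := (1 : AdicCompletion I R))))
  rw [Ideal.map_map, AlgHom.toRingHom_eq_coe, AlgHom.comp_algebraMap, map_one,
    Ideal.Quotient.algebraMap_eq] at h1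
  have h2 : (1 : R) ∈ (m.map (Ideal.Quotient.mk I)).comap (Ideal.Quotient.mk _) := by
    rw [Ideal.mem_comap, map_one]; exact h1
  rw [Ideal.comap_map_of_surjective _ Ideal.Quotient.mk_surjective, ← RingHom.ker_eq_comap_bot,
    Ideal.mk_ker] at h2
  exact (sup_le le_rfl (hjac.trans (sInf_le ⟨bot_le, hm⟩))) h2

/-- An element killed by a power of `I` in a flat module which is `R + I^n`. -/
theorem exists_of_smul_eq_zero [IsNoetherianRing R] {W : Type u} [CommRing W] [Algebra R W]
    [Module.Flat R W] (J : Ideal R) (hW : ∀ w : W, ∃ r, w - algebraMap R W r ∈ J.map (algebraMap R W))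
    (w : W) (hw : ∀ a ∈ J, a • w = 0) : ∃ r, w = algebraMap R W r := by
  classical
  obtain ⟨k, c, hc⟩ := Submodule.fg_iff_exists_fin_generating_family.1 (IsNoetherian.noetherian J)
  let φ : R →ₗ[R] (Fin k → R) := LinearMap.pi fun i => LinearMap.mulLeft R (c i)
  have hex := Module.Flat.lTensor_exact W φ.exact_subtype_ker_map
  have h0 : φ.lTensor W (w ⊗ₜ[R] 1) = 0 := by
    refine (TensorProduct.piScalarRight R R W (Fin k)).injective ?_
    ext i
    show (TensorProduct.piScalarRight R R W (Fin k)) (w ⊗ₜ φ 1) i = _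
    rw [map_zero, TensorProduct.piScalarRight_apply, TensorProduct.piScalarRightHom_tmul]
    show (c i * 1) • w = 0
    rw [mul_one]
    exact hw _ (hc ▸ Submodule.subset_span ⟨i, rfl⟩)
  obtain ⟨t, ht⟩ := (hex _).1 h0
  have key : ∀ t : W ⊗[R] LinearMap.ker φ, ∃ r, TensorProduct.rid R W ((LinearMap.ker φ).subtype.lTensor W t) =
      algebraMap R W r := by
    intro t
    induction t with
    | zero => exact ⟨0, by simp⟩
    | add x y hx hy =>
      obtain ⟨r, hr⟩ := hx
      obtain ⟨s, hs⟩ := hy
      exact ⟨r + s, by rw [map_add, map_add, map_add, hr, hs]⟩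
    | tmul v z =>
      obtain ⟨r, hr⟩ := hW v
      refine ⟨z.1 * r, ?_⟩
      show z.1 • v = _
      have hkill : ∀ y ∈ J.map (algebraMap R W), z.1 • y = 0 := by
        intro y hy
        induction hy using Submodule.span_induction with
        | mem y hy =>
          obtain ⟨a, ha, rfl⟩ := hy
          have hz : ∀ i, c i * z.1 = 0 := fun i => congrFun (LinearMap.mem_ker.1 z.2) i
          have : a * z.1 = 0 := by
            rw [← hc] at ha
            induction ha using Submodule.span_induction with
            | mem a ha => obtain ⟨i, rfl⟩ := ha; exact hz i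
            | zero => exact zero_mul _
            | add a b _ _ ha hb => rw [add_mul, ha, hb, add_zero]
            | smul s a _ ha => rw [smul_eq_mul, mul_assoc, ha, mul_zero]
          rw [Algebra.smul_def, ← map_mul, mul_comm, this, map_zero]
        | zero => exact smul_zero _
        | add a b _ _ ha hb => rw [smul_add, ha, hb, add_zero]
        | smul s a _ ha => rw [smul_eq_mul, mul_comm s a, ← smul_mul_assoc, ha, zero_mul]
      have h1 := hkill _ hr
      rw [smul_sub, sub_eq_zero] at h1
      rw [h1, Algebra.smul_def, map_mul]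
  obtain ⟨r, hr⟩ := key t
  exact ⟨r, by rw [← hr, ht, TensorProduct.rid_tmul, one_smul]⟩

theorem map_pow_sub_mem {hI : I.FG} (n : ℕ) (x : AdicCompletion I R) :
    ∃ a, x - algebraMap R (AdicCompletion I R) a ∈ (I ^ n).map (algebraMap R (AdicCompletion I R)) :=
  Groth.HensPair.exists_sub_mem_map_pow I hI n x

/-- An element of the completion with equal images in `R̂ ⊗ R̂` up to `I`-torsion comes from `R`. -/
theorem mem_range_of_smul [IsNoetherianRing R] (hjac : I ≤ Ideal.jacobson ⊥)
    (y : AdicCompletion I R) (N : ℕ)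
    (hy : ∀ a ∈ I ^ N, a • (y ⊗ₜ[R] (1 : AdicCompletion I R) - 1 ⊗ₜ y) = 0) :
    y ∈ Set.range (algebraMap R (AdicCompletion I R)) := by
  let S := AdicCompletion I R
  have := faithfullyFlat_completion I hjac
  have hI := IsNoetherian.noetherian I
  have hW : ∀ w : S ⊗[R] S, ∃ r, w - algebraMap R (S ⊗[R] S) r ∈ (I ^ N).map (algebraMap R (S ⊗[R] S)) := by
    intro w
    induction w with
    | zero => exact ⟨0, by simp⟩
    | add x y hx hy =>
      obtain ⟨r, hr⟩ := hx
      obtain ⟨s, hs⟩ := hy
      exact ⟨r + s, by rw [map_add, add_sub_add_comm]; exact add_mem hr hs⟩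
    | tmul s t =>
      obtain ⟨r, hr⟩ := Groth.HensPair.exists_sub_mem_map_pow I hI N s
      obtain ⟨r', hr'⟩ := Groth.HensPair.exists_sub_mem_map_pow I hI N t
      refine ⟨r * r', ?_⟩
      have h1 := Ideal.mem_map_of_mem (Algebra.TensorProduct.includeLeft : S →ₐ[R] S ⊗[R] S).toRingHom hr
      have h2 := Ideal.mem_map_of_mem (Algebra.TensorProduct.includeRight : S →ₐ[R] S ⊗[R] S).toRingHom hr'
      rw [Ideal.map_map, AlgHom.toRingHom_eq_coe, AlgHom.comp_algebraMap, RingHom.coe_coe, map_sub,
        AlgHom.commutes] at h1 h2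
      rw [Algebra.TensorProduct.includeLeft_apply] at h1
      rw [Algebra.TensorProduct.includeRight_apply] at h2
      have h3 := add_mem (Ideal.mul_mem_right ((1 : S) ⊗ₜ[R] t) _ h1)
        (Ideal.mul_mem_left _ (algebraMap R (S ⊗[R] S) r) h2)
      rw [sub_mul, Algebra.TensorProduct.tmul_mul_tmul, mul_one, one_mul, mul_sub, ← map_mul,
        sub_add_sub_cancel] at h3
      exact h3
  obtain ⟨r, hr⟩ := exists_of_smul_eq_zero (W := S ⊗[R] S) (I ^ N) hW _ hy
  have h1 := congrArg (Algebra.TensorProduct.lmul' R (S := S)) hr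
  rw [map_sub, Algebra.TensorProduct.lmul'_apply_tmul, Algebra.TensorProduct.lmul'_apply_tmul,
    mul_one, one_mul, sub_self, AlgHom.commutes] at h1
  have hr0 : r = 0 := (faithfulSMul_iff_algebraMap_injective R S).1 inferInstance
    (h1.symm.trans (map_zero _).symm)
  rw [hr0, map_zero, sub_eq_zero] at hr
  rw [← (Algebra.IsEffective.of_faithfullyFlat (R := R) (S := S)).eqLocus_includeLeft_includeRight]
  exact hr

theorem isAdicComplete_of_linearEquiv {M N : Type u} [AddCommGroup M] [Module R M] [AddCommGroup N]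
    [Module R N] (e : M ≃ₗ[R] N) [IsAdicComplete I N] : IsAdicComplete I M := by
  have key : ∀ (n : ℕ) (x y : M), x ≡ y [SMOD (I ^ n • ⊤ : Submodule R M)] ↔
      e x ≡ e y [SMOD (I ^ n • ⊤ : Submodule R N)] := fun n x y => by
    rw [SModEq.sub_mem, SModEq.sub_mem, ← map_sub,
      show (I ^ n • ⊤ : Submodule R N) = (I ^ n • ⊤ : Submodule R M).map e.toLinearMap by
        rw [Submodule.map_smul'', Submodule.map_top, LinearEquiv.range]]
    exact ⟨fun h => Submodule.mem_map_of_mem h, fun ⟨z, hz, hze⟩ => e.injective hze ▸ hz⟩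
  have h1 : IsHausdorff I M := ⟨fun x hx => e.injective ((IsHausdorff.haus' (I := I) (e x) fun n => by
    have := (key n x 0).1 (hx n)
    rwa [map_zero] at this).trans (map_zero e).symm)⟩
  have h2 : IsPrecomplete I M := ⟨fun f hf => by
    obtain ⟨L, hL⟩ := IsPrecomplete.prec' (I := I) (fun n => e (f n)) fun h => (key _ _ _).1 (hf h)
    refine ⟨e.symm L, fun n => (key n _ _).2 ?_⟩
    rw [e.apply_symm_apply]
    exact hL n⟩
  exact { h1, h2 with }

/-- The completion of a finite algebra is complete. -/
theorem isAdicComplete_tensor [IsNoetherianRing R] (D : Type u) [CommRing D] [Algebra R D]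
    [Module.Finite R D] :
    IsAdicComplete (I.map (algebraMap R (AdicCompletion I R ⊗[R] D))) (AdicCompletion I R ⊗[R] D) := by
  have : IsAdicComplete I (AdicCompletion I D) := AdicCompletion.isAdicComplete (IsNoetherian.noetherian I)
  have := isAdicComplete_of_linearEquiv I
    ((AdicCompletion.ofTensorProductEquivOfFiniteNoetherian I D).restrictScalars R)
  exact (IsAdicComplete.map_algebraMap_iff I (AdicCompletion I R ⊗[R] D)).2 this

/-- Algebra maps out of the completion to a separated algebra are unique. -/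
theorem algHom_ext [IsNoetherianRing R] {T : Type u} [CommRing T] [Algebra R T]
    (hT : IsHausdorff (I.map (algebraMap R T)) T) (f g : AdicCompletion I R →ₐ[R] T) : f = g := by
  refine AlgHom.ext fun x => ?_
  rw [← sub_eq_zero]
  refine hT.haus' _ fun n => ?_
  rw [SModEq.sub_mem, sub_zero, smul_eq_mul, Ideal.mul_top]
  obtain ⟨a, ha⟩ := Groth.HensPair.exists_sub_mem_map_pow I (IsNoetherian.noetherian I) n x
  have hf := Ideal.mem_map_of_mem f.toRingHom ha
  have hg := Ideal.mem_map_of_mem g.toRingHom ha
  rw [Ideal.map_map, AlgHom.toRingHom_eq_coe, AlgHom.comp_algebraMap, Ideal.map_pow, RingHom.coe_coe,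
    map_sub, AlgHom.commutes] at hf hg
  have := sub_mem hf hg
  rwa [sub_sub_sub_cancel_right] at this

end Groth.Agent.Misc12.RigDescent
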