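import Mathlib.RingTheory.ZariskisMainTheorem
import Mathlib.RingTheory.Unramified.LocalStructure
import Mathlib.RingTheory.AdicCompletion.RingHom
import Mathlib.RingTheory.AdicCompletion.LocalRing

/-!
Finite models of quasi-finite algebras, kernels of points of unramified algebras, maps of completions.
-/

set_option autoImplicit false
universe u

open TensorProduct

namespace Groth.Agent.Misc12.RigDescent

/-- A finite subalgebra agreeing with `B` on the union of the `D(c i)`, where `B` is quasi-finite. -/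
theorem exists_finite_model {R B : Type u} [CommRing R] [CommRing B] [Algebra R B]
    [Algebra.FiniteType R B] {ι : Type u} [Finite ι] (c : ι → R)
    (hq : ∀ i, Algebra.QuasiFinite R (Localization.Away (algebraMap R B (c i)))) :
    ∃ D : Subalgebra R B, Module.Finite R D ∧ ∀ (q : Ideal B) (i : ι), q.IsPrime →
      algebraMap R B (c i) ∉ q → ∃ r ∈ D, r ∉ q ∧ ∀ b : B, ∃ n, r ^ n * b ∈ D := by
  classical
  have := Fintype.ofFinite ι
  let Good : Set B := {r | IsIntegral R r ∧ ∀ x, ∃ m, IsIntegral R (r ^ m * x)}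
  have hgood : ∀ (q : Ideal B) (i : ι), q.IsPrime → algebraMap R B (c i) ∉ q → ∃ r ∈ Good, r ∉ q := by
    intro q i hqp hci
    let a := algebraMap R B (c i)
    have hle : Submonoid.powers a ≤ q.primeCompl := by
      rintro _ ⟨n, rfl⟩ h
      exact hci (hqp.mem_of_pow_mem n h)
    let : Algebra (Localization.Away a) (Localization.AtPrime q) :=
      IsLocalization.localizationAlgebraOfSubmonoidLe (Localization.Away a) (Localization.AtPrime q)
        (Submonoid.powers a) q.primeCompl hle
    have : IsScalarTower B (Localization.Away a) (Localization.AtPrime q) :=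
      IsLocalization.localization_isScalarTower_of_submonoid_le (Localization.Away a)
        (Localization.AtPrime q) (Submonoid.powers a) q.primeCompl hle
    have : IsScalarTower R (Localization.Away a) (Localization.AtPrime q) :=
      IsScalarTower.of_algebraMap_eq fun r => by
        rw [IsScalarTower.algebraMap_apply R B (Localization.AtPrime q),
          IsScalarTower.algebraMap_apply B (Localization.Away a) (Localization.AtPrime q),
          ← IsScalarTower.algebraMap_apply R B (Localization.Away a)]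
    have : IsLocalization (q.primeCompl.map (algebraMap B (Localization.Away a)))
        (Localization.AtPrime q) :=
      IsLocalization.isLocalization_of_submonoid_le (Localization.Away a) (Localization.AtPrime q)
        (Submonoid.powers a) q.primeCompl hle
    have := hq i
    have : Algebra.QuasiFiniteAt R q :=
      Algebra.QuasiFinite.of_isLocalization (R := R) (S := Localization.Away a)
        (q.primeCompl.map (algebraMap B (Localization.Away a)))
    obtain ⟨r, hrq, hr, hx⟩ :=
      Algebra.zariskisMainProperty_iff.1 (Algebra.ZariskisMainProperty.of_finiteType (R := R) q)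
    exact ⟨r, ⟨hr, hx⟩, hrq⟩
  have hrad : ∀ i, ∃ (n : ℕ) (T : Finset B), (T : Set B) ⊆ Good ∧
      algebraMap R B (c i) ^ n ∈ Ideal.span (T : Set B) := by
    intro i
    have h : algebraMap R B (c i) ∈ (Ideal.span Good).radical := by
      rw [Ideal.radical_eq_sInf, Submodule.mem_sInf]
      rintro q ⟨hle, hqp⟩
      by_contra hci
      obtain ⟨r, hr, hrq⟩ := hgood q i hqp hci
      exact hrq (hle (Ideal.subset_span hr))
    obtain ⟨n, hn⟩ := h
    obtain ⟨T, hT, hmem⟩ := Submodule.mem_span_finite_of_mem_span hn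
    exact ⟨n, T, hT, hmem⟩
  choose n T hTG hT using hrad
  let U : Finset B := Finset.univ.biUnion T
  have hUG : ∀ r ∈ U, r ∈ Good := fun r hr => by
    obtain ⟨i, -, hi⟩ := Finset.mem_biUnion.1 hr
    exact hTG i hi
  obtain ⟨g, hg⟩ := ‹Algebra.FiniteType R B›.out
  have hm : ∀ (r : U) (x : B), ∃ m, IsIntegral R ((r : B) ^ m * x) := fun r => (hUG r r.2).2
  choose m hm using hm
  let G : Finset B := U ∪ (Finset.univ : Finset U).biUnion fun r => g.image fun x => (r : B) ^ m r x * x
  let D := Algebra.adjoin R (G : Set B)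
  have hGint : ∀ x ∈ (G : Set B), IsIntegral R x := by
    intro x hx
    rcases Finset.mem_union.1 hx with h | h
    · exact (hUG x h).1
    · obtain ⟨r, -, hr⟩ := Finset.mem_biUnion.1 h
      obtain ⟨y, -, rfl⟩ := Finset.mem_image.1 hr
      exact hm r y
  refine ⟨D, Module.Finite.iff_fg.2 (fg_adjoin_of_finite (Finset.finite_toSet G) hGint),
    fun q i hqp hci => ?_⟩
  obtain ⟨r, hrT, hrq⟩ : ∃ r ∈ T i, r ∉ q := by
    by_contra! hall
    exact hci (hqp.mem_of_pow_mem _ (Ideal.span_le.2 hall (hT i)))
  have hrU : r ∈ U := Finset.mem_biUnion.2 ⟨i, Finset.mem_univ i, hrT⟩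
  have hrD : r ∈ D := Algebra.subset_adjoin (Finset.mem_union_left _ hrU)
  refine ⟨r, hrD, hrq, fun b => ?_⟩
  have hb : b ∈ Algebra.adjoin R (g : Set B) := hg.symm ▸ Algebra.mem_top
  induction hb using Algebra.adjoin_induction with
  | mem x hx =>
    exact ⟨m ⟨r, hrU⟩ x, Algebra.subset_adjoin (Finset.mem_union_right _ (Finset.mem_biUnion.2
      ⟨⟨r, hrU⟩, Finset.mem_univ _, Finset.mem_image.2 ⟨x, hx, rfl⟩⟩))⟩
  | algebraMap s => exact ⟨0, mul_mem (pow_mem hrD _) (Subalgebra.algebraMap_mem D s)⟩
  | add x y _ _ hx hy =>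
    obtain ⟨k, hk⟩ := hx
    obtain ⟨l, hl⟩ := hy
    refine ⟨k + l, ?_⟩
    rw [show r ^ (k + l) * (x + y) = r ^ l * (r ^ k * x) + r ^ k * (r ^ l * y) by ring]
    exact add_mem (mul_mem (pow_mem hrD _) hk) (mul_mem (pow_mem hrD _) hl)
  | mul x y _ _ hx hy =>
    obtain ⟨k, hk⟩ := hx
    obtain ⟨l, hl⟩ := hy
    refine ⟨k + l, ?_⟩
    rw [show r ^ (k + l) * (x * y) = (r ^ k * x) * (r ^ l * y) by ring]
    exact mul_mem hk hl

/-- The kernel of a point of an algebra unramified at `a` vanishes near its primes with `a ≠ 0`. -/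
theorem exists_annihilator {R B S : Type u} [CommRing R] [CommRing B] [Algebra R B] [CommRing S]
    [Algebra R S] [IsNoetherianRing (S ⊗[R] B)] (F : B →ₐ[R] S) (a : R)
    [Algebra.FormallyUnramified R (Localization.Away (algebraMap R B a))]
    (q : Ideal (S ⊗[R] B)) [q.IsPrime]
    (hKq : RingHom.ker (Algebra.TensorProduct.lift (AlgHom.id S S) F fun _ _ => .all _ _) ≤ q)
    (ha : algebraMap R (S ⊗[R] B) a ∉ q) :
    ∃ u ∉ q, ∀ k ∈ RingHom.ker (Algebra.TensorProduct.lift (AlgHom.id S S) F fun _ _ => .all _ _),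
      u * k = 0 := by
  classical
  let Sg : S ⊗[R] B →ₐ[S] S := Algebra.TensorProduct.lift (AlgHom.id S S) F fun _ _ => .all _ _
  let K := RingHom.ker Sg
  let ε : B → S ⊗[R] B := fun b => (1 : S) ⊗ₜ[R] b - F b ⊗ₜ[R] (1 : B)
  have hεK : ∀ b, ε b ∈ K := fun b => by
    show Sg ((1 : S) ⊗ₜ[R] b - F b ⊗ₜ[R] (1 : B)) = 0
    simp [Sg]
  have hspan : K = Ideal.span (Set.range ε) := by
    refine le_antisymm (fun k hk => ?_) (Ideal.span_le.2 (Set.range_subset_iff.2 hεK))
    have h : ∀ t : S ⊗[R] B, t - Sg t ⊗ₜ[R] (1 : B) ∈ Ideal.span (Set.range ε) := by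
      intro t
      induction t with
      | zero => simp
      | add x y hx hy =>
        rw [map_add, TensorProduct.add_tmul, add_sub_add_comm]
        exact add_mem hx hy
      | tmul s b =>
        have : s ⊗ₜ[R] b - Sg (s ⊗ₜ[R] b) ⊗ₜ[R] (1 : B) = (s ⊗ₜ[R] (1 : B)) * ε b := by
          simp [Sg, ε, mul_sub]
        rw [this]
        exact Ideal.mul_mem_left _ _ (Ideal.subset_span ⟨b, rfl⟩)
    have := h k
    rwa [show Sg k = 0 from hk, TensorProduct.zero_tmul, sub_zero] at this
  let Q := Localization.Away (algebraMap R ((S ⊗[R] B) ⧸ K * K) a)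
  let l : S ⊗[R] B →ₐ[R] Q :=
    (IsScalarTower.toAlgHom R ((S ⊗[R] B) ⧸ K * K) Q).comp (Ideal.Quotient.mkₐ R (K * K))
  have hau : IsUnit (algebraMap R Q a) := by
    rw [IsScalarTower.algebraMap_apply R ((S ⊗[R] B) ⧸ K * K) Q]
    exact IsLocalization.Away.algebraMap_isUnit _
  have hu : ∀ (f : B →ₐ[R] Q) (y : Submonoid.powers (algebraMap R B a)), IsUnit (f y) := by
    rintro f ⟨_, n, rfl⟩
    show IsUnit (f (algebraMap R B a ^ n))
    rw [map_pow, f.commutes]
    exact hau.pow n
  let f₁ : B →ₐ[R] Q := l.comp Algebra.TensorProduct.includeRight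
  let f₂ : B →ₐ[R] Q := l.comp (Algebra.TensorProduct.includeLeft.comp F)
  let N : Ideal Q := K.map l.toRingHom
  have hN : IsNilpotent N := ⟨2, by
    rw [pow_two, Ideal.zero_eq_bot, ← Ideal.map_mul, Ideal.map_eq_bot_iff_le_ker]
    intro x hx
    show algebraMap ((S ⊗[R] B) ⧸ K * K) Q (Ideal.Quotient.mk (K * K) x) = 0
    rw [Ideal.Quotient.eq_zero_iff_mem.2 hx, map_zero]⟩
  have hmk : (IsLocalization.liftAlgHom (M := Submonoid.powers (algebraMap R B a)) (hu f₁) :
      Localization.Away (algebraMap R B a) →ₐ[R] Q) = IsLocalization.liftAlgHom (hu f₂) := by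
    refine Algebra.FormallyUnramified.ext N hN fun x => ?_
    have e : (Ideal.Quotient.mkₐ R N).comp (IsLocalization.liftAlgHom
        (M := Submonoid.powers (algebraMap R B a)) (hu f₁) : Localization.Away (algebraMap R B a) →ₐ[R] Q) =
        (Ideal.Quotient.mkₐ R N).comp (IsLocalization.liftAlgHom (hu f₂)) := by
      refine IsLocalization.algHom_ext (Submonoid.powers (algebraMap R B a)) (AlgHom.ext fun b => ?_)
      simp only [AlgHom.comp_apply, Algebra.algHom_apply, IsScalarTower.coe_toAlgHom',
        Ideal.Quotient.mkₐ_eq_mk, IsLocalization.liftAlgHom_apply, IsLocalization.lift_eq]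
      show Ideal.Quotient.mk N (IsLocalization.lift (hu f₁) (algebraMap B _ b)) =
        Ideal.Quotient.mk N (IsLocalization.lift (hu f₂) (algebraMap B _ b))
      rw [IsLocalization.lift_eq, IsLocalization.lift_eq]
      refine Ideal.Quotient.eq.2 ?_
      have := Ideal.mem_map_of_mem l.toRingHom (hεK b)
      rw [AlgHom.toRingHom_eq_coe, RingHom.coe_coe, map_sub] at this
      exact this
    exact DFunLike.congr_fun e x
  have hε : ∀ b, ∃ n, algebraMap R (S ⊗[R] B) a ^ n * ε b ∈ K * K := by
    intro b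
    have h := DFunLike.congr_fun hmk (algebraMap B _ b)
    simp only [IsLocalization.liftAlgHom_apply, IsLocalization.lift_eq] at h
    have h' : l (ε b) = 0 := by
      rw [map_sub, sub_eq_zero]
      exact h
    obtain ⟨⟨_, n, rfl⟩, hn⟩ := (IsLocalization.map_eq_zero_iff
      (Submonoid.powers (algebraMap R ((S ⊗[R] B) ⧸ K * K) a)) Q _).1 h'
    refine ⟨n, ?_⟩
    rw [← Ideal.Quotient.eq_zero_iff_mem, map_mul, map_pow]
    exact hn
  let L := Localization.AtPrime q
  have hKL : K.map (algebraMap (S ⊗[R] B) L) = ⊥ := by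
    refine Submodule.eq_bot_of_le_smul_of_le_jacobson_bot (K.map (algebraMap _ L)) _
      (IsNoetherian.noetherian _) ?_ ?_
    · conv_lhs => rw [hspan, Ideal.map_span]
      rw [Ideal.span_le]
      rintro _ ⟨_, ⟨b, rfl⟩, rfl⟩
      obtain ⟨n, hn⟩ := hε b
      have h1 := Ideal.mem_map_of_mem (algebraMap (S ⊗[R] B) L) hn
      rw [Ideal.map_mul, map_mul, map_pow] at h1
      exact (Ideal.unit_mul_mem_iff_mem _
        ((IsLocalization.map_units L (⟨_, ha⟩ : q.primeCompl)).pow n)).1 h1
    · rw [IsLocalRing.jacobson_eq_maximalIdeal ⊥ bot_ne_top, Ideal.map_le_iff_le_comap]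
      exact hKq.trans (IsLocalization.AtPrime.comap_maximalIdeal L q).ge
  obtain ⟨s, hs⟩ := IsNoetherian.noetherian K
  have hu0 : ∀ k ∈ K, ∃ u, u ∉ q ∧ u * k = 0 := by
    intro k hk
    have h1 : algebraMap _ L k = 0 := by
      rw [← Ideal.mem_bot, ← hKL]; exact Ideal.mem_map_of_mem _ hk
    obtain ⟨⟨u, hu⟩, huk⟩ := (IsLocalization.map_eq_zero_iff q.primeCompl L k).1 h1
    exact ⟨u, hu, huk⟩
  choose u hu huk using hu0
  refine ⟨∏ k ∈ s.attach, u k.1 (hs ▸ Submodule.subset_span k.2), ?_, ?_⟩
  · exact Submonoid.prod_mem q.primeCompl fun k _ => hu k.1 _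
  intro k hk
  change k ∈ K at hk
  rw [← hs] at hk
  induction hk using Submodule.span_induction with
  | mem y hy =>
    rw [← Finset.mul_prod_erase _ _ (Finset.mem_attach s ⟨y, hy⟩), mul_right_comm, huk y, zero_mul]
  | zero => exact mul_zero _
  | add y z _ _ h1 h2 => rw [mul_add, h1, h2, add_zero]
  | smul t y _ h1 => rw [smul_eq_mul, mul_left_comm, h1, mul_zero]

/-- A ring map into a complete ring extends to the completion. -/
theorem exists_completion_lift {D T : Type u} [CommRing D] [CommRing T] (J : Ideal D) (J' : Ideal T)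
    [IsAdicComplete J' T] (ε : D →+* T) (hε : J.map ε ≤ J') :
    ∃ χ : AdicCompletion J D →+* T, χ.comp (algebraMap D (AdicCompletion J D)) = ε := by
  have hle : ∀ n, J ^ n ≤ (J' ^ n).comap ε := fun n => by
    refine Ideal.map_le_iff_le_comap.1 ?_
    rw [Ideal.map_pow]
    exact Ideal.pow_right_mono hε n
  let G := fun n => (Ideal.quotientMap (J' ^ n) ε (hle n)).comp (AdicCompletion.evalₐ J n).toRingHom
  have hG : ∀ {m n : ℕ} (h : m ≤ n), (Ideal.Quotient.factorPow J' h).comp (G n) = G m := by
    intro m n h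
    refine RingHom.ext fun x => ?_
    obtain ⟨y, rfl⟩ := AdicCompletion.mk_surjective J D x
    simp only [G, RingHom.comp_apply, AlgHom.toRingHom_eq_coe, RingHom.coe_coe,
      AdicCompletion.evalₐ_mk, Ideal.quotientMap_mk, Ideal.Quotient.factor_mk]
    exact (Ideal.quotientMap_mk (H := hle m)).symm.trans
      ((congrArg _ (AdicCompletion.Ideal.mk_eq_mk _ h y)).trans (Ideal.quotientMap_mk (H := hle m)))
  refine ⟨IsAdicComplete.liftRingHom J' G hG, RingHom.ext fun d => ?_⟩
  rw [← sub_eq_zero]
  refine IsHausdorff.haus' (I := J') _ fun n => ?_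
  rw [SModEq.sub_mem, sub_zero, smul_eq_mul, Ideal.mul_top, ← Ideal.Quotient.eq_zero_iff_mem, map_sub,
    RingHom.comp_apply, IsAdicComplete.mk_liftRingHom, sub_eq_zero]
  show Ideal.quotientMap _ ε (hle n) (AdicCompletion.evalₐ J n (algebraMap D _ d)) = _
  rw [AlgHom.commutes, Ideal.Quotient.algebraMap_eq, Ideal.quotientMap_mk]

end Groth.Agent.Misc12.RigDescent

namespace Groth.Agent.Misc12.RigDescent

/-- Unramifiedness of a localization is stable under base change. -/
theorem formallyUnramified_away {A B S : Type u} [CommRing A] [CommRing B] [Algebra A B] [CommRing S]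
    [Algebra A S] (a : A) [Algebra.FormallyUnramified A (Localization.Away (algebraMap A B a))] :
    Algebra.FormallyUnramified S
      (Localization.Away (algebraMap S (S ⊗[A] B) (algebraMap A S a))) := by
  let T := Localization.Away (algebraMap S (S ⊗[A] B) (algebraMap A S a))
  have hau : IsUnit (algebraMap (S ⊗[A] B) T (algebraMap S (S ⊗[A] B) (algebraMap A S a))) :=
    IsLocalization.Away.algebraMap_isUnit _
  let f : B →ₐ[A] T := (IsScalarTower.toAlgHom A (S ⊗[A] B) T).comp Algebra.TensorProduct.includeRight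
  have hfa : IsUnit (f (algebraMap A B a)) := by
    rw [f.commutes, IsScalarTower.algebraMap_apply A (S ⊗[A] B) T, IsScalarTower.algebraMap_apply A S (S ⊗[A] B)]
    exact hau
  let g : Localization.Away (algebraMap A B a) →ₐ[A] T :=
    IsLocalization.Away.liftAlgHom (f := f) (algebraMap A B a) hfa
  let G : S ⊗[A] Localization.Away (algebraMap A B a) →ₐ[S] T :=
    Algebra.TensorProduct.lift (Algebra.ofId S T) g fun _ _ => .all _ _
  have hGi : ∀ t : S ⊗[A] B, algebraMap (S ⊗[A] B) T t ∈ G.range := by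
    intro t
    induction t with
    | zero => rw [map_zero]; exact zero_mem _
    | add x y hx hy => rw [map_add]; exact add_mem hx hy
    | tmul s b =>
      refine ⟨s ⊗ₜ[A] algebraMap B _ b, ?_⟩
      show G (s ⊗ₜ[A] algebraMap B _ b) = _
      rw [Algebra.TensorProduct.lift_tmul,
        show g (algebraMap B _ b) = f b from IsLocalization.Away.lift_eq _ hfa b]
      show algebraMap S T s * algebraMap (S ⊗[A] B) T ((1 : S) ⊗ₜ[A] b) = _
      rw [IsScalarTower.algebraMap_apply S (S ⊗[A] B) T, ← map_mul]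
      refine congrArg _ ?_
      rw [Algebra.TensorProduct.algebraMap_apply, Algebra.algebraMap_self_apply,
        Algebra.TensorProduct.tmul_mul_tmul, mul_one, one_mul]
  refine Algebra.FormallyUnramified.of_surjective G fun y => ?_
  obtain ⟨t, ⟨_, n, rfl⟩, rfl⟩ := IsLocalization.exists_mk'_eq
    (Submonoid.powers (algebraMap S (S ⊗[A] B) (algebraMap A S a))) y
  obtain ⟨w, hw⟩ := hGi t
  let z : S ⊗[A] Localization.Away (algebraMap A B a) :=
    (1 : S) ⊗ₜ[A] IsLocalization.Away.invSelf (algebraMap A B a)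
  refine ⟨w * z ^ n, ?_⟩
  rw [IsLocalization.eq_mk'_iff_mul_eq, map_mul, map_pow, mul_assoc, map_pow, ← mul_pow]
  have : G z * algebraMap (S ⊗[A] B) T (algebraMap S (S ⊗[A] B) (algebraMap A S a)) = 1 := by
    rw [← IsScalarTower.algebraMap_apply S (S ⊗[A] B) T, ← G.commutes, ← map_mul,
      show algebraMap S (S ⊗[A] Localization.Away (algebraMap A B a)) (algebraMap A S a) =
        (1 : S) ⊗ₜ[A] algebraMap A (Localization.Away (algebraMap A B a)) a from by
        rw [Algebra.TensorProduct.algebraMap_apply, Algebra.algebraMap_self_apply,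
          Algebra.TensorProduct.tmul_one_eq_one_tmul]]
    rw [show z * ((1 : S) ⊗ₜ[A] algebraMap A (Localization.Away (algebraMap A B a)) a) = 1 from by
      rw [Algebra.TensorProduct.tmul_mul_tmul, one_mul,
        IsScalarTower.algebraMap_apply A B (Localization.Away (algebraMap A B a)), mul_comm,
        IsLocalization.Away.mul_invSelf, Algebra.TensorProduct.one_def], map_one]
  rw [this, one_pow, mul_one]
  exact hw

end Groth.Agent.Misc12.RigDescent
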