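import Groth.Agent.Misc12.RigDescent.Completion
import Groth.Agent.Misc12.RigDescent.Model
import Groth.Agent.CohFin.ProjFinite
import Mathlib.RingTheory.Flat.Basic

/-!
Points in the completion of algebras unramified off `V(I)` over a Noetherian henselian pair.
-/

set_option autoImplicit false
universe u

open TensorProduct

namespace Groth.Agent.Misc12.RigDescent

/-- Over a finite model `D`, the points of `Spec (R̂ ⊗ D)` of `ker (R̂ ⊗ D → R̂)` outside `V(I)` come
from a clopen over the henselian pair; in the form of a numerator. -/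
theorem exists_numerator {R : Type u} [CommRing R] [IsNoetherianRing R] {I : Ideal R}
    [HenselianRing R I] {ι : Type u} [Finite ι] (c : ι → R) (hc : Ideal.span (Set.range c) = I)
    (D : Type u) [CommRing D] [Algebra R D] [Module.Finite R D]
    (KD : Ideal (AdicCompletion I R ⊗[R] D))
    (hopen : ∀ p : PrimeSpectrum (AdicCompletion I R ⊗[R] D), KD ≤ p.asIdeal →
      (∃ i, algebraMap R (AdicCompletion I R ⊗[R] D) (c i) ∉ p.asIdeal) →
      ∃ e : AdicCompletion I R ⊗[R] D, e ∉ p.asIdeal ∧ ∀ k ∈ KD, e * k = 0) (i : ι) :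
    ∃ x : D, ∀ p : PrimeSpectrum (AdicCompletion I R ⊗[R] D),
      algebraMap R (AdicCompletion I R ⊗[R] D) (c i) ∉ p.asIdeal →
        (KD ≤ p.asIdeal ↔ (1 : AdicCompletion I R) ⊗ₜ[R] x ∉ p.asIdeal) := by
  let S := AdicCompletion I R
  let T := S ⊗[R] D
  let J := I.map (algebraMap R D)
  let Dh := AdicCompletion J D
  have hJ : J.FG := Ideal.FG.map (IsNoetherian.noetherian I) _
  have : HenselianRing D J := Groth.Hensel1.henselianRing_of_isIntegral D
  have := isAdicComplete_tensor I D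
  have := AdicCompletion.isAdicComplete_self J hJ
  obtain ⟨χ, hχ⟩ := exists_completion_lift J (I.map (algebraMap R T))
    (Algebra.TensorProduct.includeRight : D →ₐ[R] T).toRingHom
    (by rw [Ideal.map_map, AlgHom.toRingHom_eq_coe, AlgHom.comp_algebraMap])
  obtain ⟨ρ₀, hρ₀⟩ := exists_completion_lift I (J.map (algebraMap D Dh))
    ((algebraMap D Dh).comp (algebraMap R D)) (by rw [← Ideal.map_map])
  let _ : Algebra R Dh := inferInstance
  have hRD : ∀ r, algebraMap D Dh (algebraMap R D r) = algebraMap R Dh r := fun r =>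
    (IsScalarTower.algebraMap_apply R D Dh r).symm
  let ρS : S →ₐ[R] Dh :=
    { ρ₀ with commutes' := fun r => (RingHom.congr_fun hρ₀ r).trans (hRD r) }
  let ρ : T →ₐ[R] Dh := Algebra.TensorProduct.lift ρS (IsScalarTower.toAlgHom R D Dh) fun _ _ => .all _ _
  let χa : Dh →ₐ[R] T :=
    { χ with
      commutes' := fun r => by
        show χ (algebraMap R Dh r) = _
        rw [← hRD]
        exact (RingHom.congr_fun hχ _).trans
          ((Algebra.TensorProduct.includeRight : D →ₐ[R] T).commutes r) }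
  have hχD : ∀ d, χa (algebraMap D Dh d) = (1 : S) ⊗ₜ[R] d := fun d => RingHom.congr_fun hχ d
  have hid : χa.comp ρ = AlgHom.id R T := by
    refine Algebra.TensorProduct.ext ?_ (AlgHom.ext fun d => ?_)
    · exact algHom_ext I inferInstance _ _
    · show χa (ρ ((1 : S) ⊗ₜ[R] d)) = (1 : S) ⊗ₜ[R] d
      rw [show ρ ((1 : S) ⊗ₜ[R] d) = algebraMap D Dh d from
        (Algebra.TensorProduct.lift_tmul _ _ _ _ _).trans (by rw [map_one, one_mul]; rfl), hχD]
  -- the clopen in the completion of `D`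
  let g : ι → D := fun i => algebraMap R D (c i)
  let UT : Set (PrimeSpectrum T) := {p | ∃ i, algebraMap R T (c i) ∉ p.asIdeal}
  have hUT : IsOpen UT := by
    have : UT = ⋃ i, (PrimeSpectrum.basicOpen (algebraMap R T (c i)) : Set (PrimeSpectrum T)) := by
      ext p; simp [UT]
    rw [this]
    exact isOpen_iUnion fun i => (PrimeSpectrum.basicOpen _).2
  let V' : Set (PrimeSpectrum T) := PrimeSpectrum.zeroLocus (KD : Set T) ∩ UT
  have hV' : IsOpen V' := isOpen_iff_forall_mem_open.2 fun p ⟨hp, hpU⟩ => by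
    obtain ⟨e, he, hk⟩ := hopen p hp hpU
    refine ⟨(PrimeSpectrum.basicOpen e : Set (PrimeSpectrum T)) ∩ UT, fun p' ⟨he', hU'⟩ =>
      ⟨fun k hk' => (p'.isPrime.mem_or_mem ?_).resolve_left he', hU'⟩,
      (PrimeSpectrum.basicOpen e).2.inter hUT, he, hpU⟩
    rw [hk k hk']
    exact p'.asIdeal.zero_mem
  let cρ : PrimeSpectrum Dh → PrimeSpectrum T := PrimeSpectrum.comap ρ.toRingHom
  have hcρ : Continuous cρ := PrimeSpectrum.continuous_comap _
  have hU : (⋃ i, (PrimeSpectrum.basicOpen (algebraMap D Dh (g i)) : Set (PrimeSpectrum Dh))) = cρ ⁻¹' UT := by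
    ext q
    simp only [Set.mem_iUnion]
    refine exists_congr fun i => not_congr ?_
    show algebraMap D Dh (g i) ∈ q.asIdeal ↔ ρ (algebraMap R T (c i)) ∈ q.asIdeal
    rw [ρ.commutes, hRD]
  have hopen2 : IsOpen (UT \ PrimeSpectrum.zeroLocus (KD : Set T)) :=
    hUT.sdiff (PrimeSpectrum.isClosed_zeroLocus _)
  obtain ⟨W, hW, hWV⟩ := Groth.HensPair.exists_clopen_comap_completion Groth.CohFin.projFinite hJ g
    (le_trans (by
      show I.map (algebraMap R D) ≤ Ideal.span (Set.range g)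
      rw [← hc, Ideal.map_span, ← Set.range_comp]; exact le_rfl) Ideal.le_radical)
    (cρ ⁻¹' V') (hV'.preimage hcρ)
    (by
      rw [hU, ← Set.preimage_sdiff]
      refine IsOpen.preimage hcρ ?_
      rwa [Set.sdiff_inter, Set.sdiff_self, Set.union_empty])
    (by rw [hU]; exact Set.preimage_mono Set.inter_subset_right)
  let U : Set (PrimeSpectrum D) := ⋃ i, (PrimeSpectrum.basicOpen (g i) : Set (PrimeSpectrum D))
  have hUo : IsOpen U := isOpen_iUnion fun i => (PrimeSpectrum.basicOpen _).2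
  let Vd : Set (PrimeSpectrum D) := Subtype.val '' W
  have hVd : IsOpen Vd := hUo.isOpenMap_subtype_val _ hW.2
  have hVd' : IsOpen ((PrimeSpectrum.basicOpen (g i) : Set (PrimeSpectrum D)) \ Vd) := by
    have : (PrimeSpectrum.basicOpen (g i) : Set (PrimeSpectrum D)) \ Vd =
        (PrimeSpectrum.basicOpen (g i) : Set (PrimeSpectrum D)) ∩ Subtype.val '' Wᶜ := by
      ext p
      constructor
      · rintro ⟨hp, hn⟩
        exact ⟨hp, ⟨p, Set.mem_iUnion.2 ⟨i, hp⟩⟩, fun h => hn ⟨_, h, rfl⟩, rfl⟩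
      · rintro ⟨hp, ⟨y, hy, rfl⟩⟩
        exact ⟨hp, fun ⟨z, hz, hzy⟩ => hy (Subtype.ext hzy ▸ hz)⟩
    rw [this]
    exact (PrimeSpectrum.basicOpen _).2.inter (hUo.isOpenMap_subtype_val _ hW.compl.2)
  obtain ⟨N, s, x, -, hx⟩ := Groth.HensPair.exists_numerator_of_clopen (g i) Vd hVd hVd'
  refine ⟨x, fun p hp => ?_⟩
  let q : PrimeSpectrum Dh := PrimeSpectrum.comap χa.toRingHom p
  have hq : cρ q = p := PrimeSpectrum.ext (Ideal.ext fun t => by
    show χa (ρ t) ∈ p.asIdeal ↔ t ∈ p.asIdeal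
    rw [← AlgHom.comp_apply, hid, AlgHom.id_apply])
  have hqD : ∀ d, d ∈ (PrimeSpectrum.comap (algebraMap D Dh) q).asIdeal ↔ (1 : S) ⊗ₜ[R] d ∈ p.asIdeal := by
    intro d
    show χa (algebraMap D Dh d) ∈ p.asIdeal ↔ _
    rw [hχD]
  have hgi : g i ∉ (PrimeSpectrum.comap (algebraMap D Dh) q).asIdeal := by
    rw [hqD]
    intro h
    exact hp ((Algebra.TensorProduct.includeRight : D →ₐ[R] T).commutes (c i) ▸ h)
  have h1 := hx _ hgi
  rw [hqD] at h1
  rw [← h1]
  have hmem : PrimeSpectrum.comap (algebraMap D Dh) q ∈ U := Set.mem_iUnion.2 ⟨i, hgi⟩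
  constructor
  · intro h
    refine ⟨⟨_, hmem⟩, (hWV q hmem).2 ?_, rfl⟩
    show cρ q ∈ V'
    rw [hq]
    exact ⟨h, i, hp⟩
  · rintro ⟨y, hy, hyq⟩
    have : (⟨_, hmem⟩ : ↥U) ∈ W := by rwa [show (⟨_, hmem⟩ : ↥U) = y from Subtype.ext hyq.symm]
    have h2 : cρ q ∈ V' := (hWV q hmem).1 this
    rw [hq] at h2
    exact h2.1

/-- A point in the completion of an algebra unramified off `V(I)` comes from the henselian pair. -/
theorem mem_range {R : Type u} [CommRing R] [IsNoetherianRing R] {I : Ideal R} [HenselianRing R I]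
    {B : Type u} [CommRing B] [Algebra R B] [Algebra.FiniteType R B] {ι : Type u} [Finite ι]
    (c : ι → R) (hc : Ideal.span (Set.range c) = I)
    (hun : ∀ i, Algebra.FormallyUnramified R (Localization.Away (algebraMap R B (c i))))
    (F : B →ₐ[R] AdicCompletion I R) (b : B) :
    F b ∈ Set.range (algebraMap R (AdicCompletion I R)) := by
  classical
  let S := AdicCompletion I R
  have hjac : I ≤ Ideal.jacobson ⊥ := HenselianRing.jac
  have := faithfullyFlat_completion I hjac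
  have : IsNoetherianRing S := Groth.Calg1.isNoetherianRing_adicCompletion I (IsNoetherian.noetherian I)
  have : IsNoetherianRing (S ⊗[R] B) := Algebra.FiniteType.isNoetherianRing S _
  obtain ⟨D, hDfin, hD⟩ := exists_finite_model (B := B) c fun i => by
    have := hun i
    have : Algebra.EssFiniteType B (Localization.Away (algebraMap R B (c i))) :=
      Algebra.EssFiniteType.of_isLocalization _ (Submonoid.powers (algebraMap R B (c i)))
    have : Algebra.EssFiniteType R (Localization.Away (algebraMap R B (c i))) :=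
      Algebra.EssFiniteType.comp R B _
    infer_instance
  let j : S ⊗[R] D →ₐ[R] S ⊗[R] B := Algebra.TensorProduct.map (AlgHom.id R S) D.val
  have hj : Function.Injective j := Module.Flat.lTensor_preserves_injective_linearMap
    (M := S) D.val.toLinearMap Subtype.val_injective
  have hclear : ∀ (r : D), (∀ b : B, ∃ n, (r : B) ^ n * b ∈ D) →
      ∀ t : S ⊗[R] B, ∃ n t', j t' = ((1 : S) ⊗ₜ[R] (r : B)) ^ n * t := by
    intro r hr t
    have hj1 : j ((1 : S) ⊗ₜ[R] r) = (1 : S) ⊗ₜ[R] (r : B) := by simp [j]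
    induction t with
    | zero => exact ⟨0, 0, by simp⟩
    | add x y hx hy =>
      obtain ⟨k, x', hx'⟩ := hx
      obtain ⟨l, y', hy'⟩ := hy
      refine ⟨k + l, ((1 : S) ⊗ₜ[R] r) ^ l * x' + ((1 : S) ⊗ₜ[R] r) ^ k * y', ?_⟩
      rw [map_add, map_mul, map_mul, map_pow, map_pow, hj1, hx', hy']
      ring
    | tmul s b =>
      obtain ⟨n, hn⟩ := hr b
      refine ⟨n, s ⊗ₜ[R] ⟨_, hn⟩, ?_⟩
      simp [j]
  let Sg : S ⊗[R] B →ₐ[S] S := Algebra.TensorProduct.lift (AlgHom.id S S) F fun _ _ => .all _ _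
  let KD : Ideal (S ⊗[R] D) := RingHom.ker (Sg.toRingHom.comp j.toRingHom)
  have hσ : Function.Surjective (Sg.toRingHom.comp j.toRingHom) := fun s =>
    ⟨s ⊗ₜ[R] 1, by simp [Sg, j]⟩
  have hja : ∀ a, j (algebraMap R (S ⊗[R] D) a) = algebraMap R (S ⊗[R] B) a := j.commutes
  have hopen : ∀ p : PrimeSpectrum (S ⊗[R] D), KD ≤ p.asIdeal →
      (∃ i, algebraMap R (S ⊗[R] D) (c i) ∉ p.asIdeal) →
      ∃ e : S ⊗[R] D, e ∉ p.asIdeal ∧ ∀ k ∈ KD, e * k = 0 := by
    rintro p hp ⟨i, hi⟩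
    let s : Ideal S := p.asIdeal.map (Sg.toRingHom.comp j.toRingHom)
    have hs : s.IsPrime := Ideal.map_isPrime_of_surjective hσ hp
    let q : Ideal (S ⊗[R] B) := s.comap Sg.toRingHom
    have hq : q.IsPrime := Ideal.IsPrime.comap _
    have hqp : ∀ t, j t ∈ q ↔ t ∈ p.asIdeal := fun t => by
      show Sg (j t) ∈ s ↔ _
      constructor
      · intro h
        have h' : t ∈ s.comap (Sg.toRingHom.comp j.toRingHom) := h
        rwa [Ideal.comap_map_of_surjective _ hσ, ← RingHom.ker_eq_comap_bot, sup_eq_left.2 hp] at h'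
      · exact fun h => Ideal.mem_map_of_mem (Sg.toRingHom.comp j.toRingHom) h
    have hi' : algebraMap R (S ⊗[R] B) (c i) ∉ q := by rwa [← hja, hqp]
    have hi2 : algebraMap R B (c i) ∉
        q.comap (Algebra.TensorProduct.includeRight : B →ₐ[R] S ⊗[R] B).toRingHom := fun h => hi' (by
      rw [← (Algebra.TensorProduct.includeRight : B →ₐ[R] S ⊗[R] B).commutes]; exact h)
    obtain ⟨r, hrD, hrq, hr⟩ := hD _ i (Ideal.IsPrime.comap _) hi2
    obtain ⟨u, hu, huk⟩ := exists_annihilator F (c i) q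
      (fun k hk => show Sg k ∈ s by rw [show Sg k = 0 from hk]; exact s.zero_mem) hi'
    obtain ⟨n, u', hu'⟩ := hclear ⟨r, hrD⟩ hr u
    have hrq' : (1 : S) ⊗ₜ[R] r ∉ q := hrq
    refine ⟨u', fun h => ?_, fun k hk => hj ?_⟩
    · have h1 := (hqp u').2 h
      rw [hu'] at h1
      exact (hq.mem_or_mem h1).elim (fun h2 => hrq' (hq.mem_of_pow_mem _ h2)) hu
    · rw [map_mul, map_zero, hu', mul_assoc, huk (j k) hk, mul_zero]
  -- `I`-torsion
  let θ : S ⊗[R] B →ₐ[R] S ⊗[R] S := Algebra.TensorProduct.map (AlgHom.id R S) F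
  let d : S ⊗[R] S := F b ⊗ₜ[R] (1 : S) - (1 : S) ⊗ₜ[R] F b
  have key : ∀ i, ∃ N, c i ^ N • d = 0 := by
    intro i
    obtain ⟨x, hx⟩ := exists_numerator c hc D KD hopen i
    let x' : S ⊗[R] B := (1 : S) ⊗ₜ[R] (x : B)
    -- `F x` is a unit away from `c i`
    obtain ⟨M, hM⟩ : algebraMap R S (c i) ∈ (Ideal.span {F x}).radical := by
      rw [Ideal.radical_eq_sInf, Submodule.mem_sInf]
      rintro s ⟨hle, hs⟩
      by_contra hci
      let p : PrimeSpectrum (S ⊗[R] D) := PrimeSpectrum.comap (Sg.toRingHom.comp j.toRingHom) ⟨s, hs⟩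
      have hKp : KD ≤ p.asIdeal := fun k hk => by
        show Sg (j k) ∈ s
        rw [show Sg (j k) = 0 from hk]; exact s.zero_mem
      have hcp : algebraMap R (S ⊗[R] D) (c i) ∉ p.asIdeal := fun h => hci (by
        have h' : Sg (j (algebraMap R (S ⊗[R] D) (c i))) ∈ s := h
        rw [hja, ← Sg.restrictScalars_apply R, AlgHom.commutes] at h'
        exact h')
      refine (hx p hcp).1 hKp ?_
      show Sg (j ((1 : S) ⊗ₜ[R] x)) ∈ s
      rw [show Sg (j ((1 : S) ⊗ₜ[R] x)) = F x by simp [Sg, j]]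
      exact hle (Ideal.mem_span_singleton_self _)
    obtain ⟨c', hc'⟩ := Ideal.mem_span_singleton'.1 hM
    let ε : S ⊗[R] B := (1 : S) ⊗ₜ[R] b - F b ⊗ₜ[R] (1 : B)
    have hεK : Sg ε = 0 := by simp [Sg, ε]
    obtain ⟨N, hN⟩ : algebraMap R (S ⊗[R] B) (c i) * x' ∈
        Ideal.radical (LinearMap.ker (LinearMap.toSpanSingleton (S ⊗[R] B) (S ⊗[R] B) ε)) := by
      rw [Ideal.radical_eq_sInf, Submodule.mem_sInf]
      rintro (q : Ideal (S ⊗[R] B)) ⟨hle, hq⟩
      by_contra hq'
      have hcq : algebraMap R (S ⊗[R] B) (c i) ∉ q := fun h => hq' (q.mul_mem_right _ h)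
      have hxq : x' ∉ q := fun h => hq' (q.mul_mem_left _ h)
      let p : PrimeSpectrum (S ⊗[R] D) := PrimeSpectrum.comap j.toRingHom ⟨q, hq⟩
      have hcp : algebraMap R (S ⊗[R] D) (c i) ∉ p.asIdeal := fun h => hcq (hja (c i) ▸ h)
      have hKp : KD ≤ p.asIdeal := (hx p hcp).2 fun h => hxq (by
        have h' : j ((1 : S) ⊗ₜ[R] x) ∈ q := h
        simpa [j, x'] using h')
      have hi2 : algebraMap R B (c i) ∉
          q.comap (Algebra.TensorProduct.includeRight : B →ₐ[R] S ⊗[R] B).toRingHom := fun h => hcq (by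
        rw [← (Algebra.TensorProduct.includeRight : B →ₐ[R] S ⊗[R] B).commutes]; exact h)
      obtain ⟨r, hrD, hrq, hr⟩ := hD _ i (Ideal.IsPrime.comap _) hi2
      have hK : RingHom.ker Sg ≤ q := fun k hk => by
        obtain ⟨n, k', hk'⟩ := hclear ⟨r, hrD⟩ hr k
        have : k' ∈ KD := by
          show Sg (j k') = 0
          rw [hk', map_mul, show Sg k = 0 from hk, mul_zero]
        have h1 : j k' ∈ q := hKp this
        rw [hk'] at h1
        exact (hq.mem_or_mem h1).resolve_left fun h2 => hrq (hq.mem_of_pow_mem _ h2)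
      obtain ⟨u, hu, huk⟩ := exists_annihilator F (c i) q hK hcq
      exact hu (hle (show u • ε = 0 from huk ε hεK))
    have hθ := congrArg θ (show (algebraMap R (S ⊗[R] B) (c i) * x') ^ N • ε = 0 from hN)
    rw [smul_eq_mul, map_mul, map_zero, map_pow, map_mul, θ.commutes] at hθ
    refine ⟨N + M * N, ?_⟩
    have hx1 : θ x' = (1 : S) ⊗ₜ[R] F x := by simp [θ, x']
    have hd : θ ε = -d := by simp [θ, ε, d]
    have hu : ((1 : S) ⊗ₜ[R] c') * θ x' = algebraMap R (S ⊗[R] S) (c i) ^ M := by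
      rw [hx1, Algebra.TensorProduct.tmul_mul_tmul, one_mul, hc', ← map_pow, ← map_pow]
      exact (Algebra.TensorProduct.includeRight : S →ₐ[R] S ⊗[R] S).commutes (c i ^ M)
    rw [hd] at hθ
    refine (Algebra.smul_def (A := S ⊗[R] S) (c i ^ (N + M * N)) d).trans ?_
    rw [map_pow, pow_add, pow_mul, ← hu, mul_pow]
    rw [mul_pow] at hθ
    linear_combination -((1 : S) ⊗ₜ[R] c') ^ N * hθ
  have hrad : I ≤ Ideal.radical (LinearMap.ker (LinearMap.toSpanSingleton R (S ⊗[R] S) d)) := by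
    refine hc.ge.trans (Ideal.span_le.2 ?_)
    rintro _ ⟨i, rfl⟩
    obtain ⟨N, hN⟩ := key i
    exact ⟨N, hN⟩
  obtain ⟨N, hN⟩ := Ideal.exists_pow_le_of_le_radical_of_fg hrad (IsNoetherian.noetherian I)
  exact mem_range_of_smul I hjac (F b) N fun a ha => hN ha

end Groth.Agent.Misc12.RigDescent
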